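import Cfsg.Agent.Lib.EPPO.PSL
import Cfsg.Agent.Lib.SzSmall.Model
import Cfsg.Agent.Lib.SzSmall.ToriPair
import Cfsg.Agent.Lib.CNSimple.TIMain

/-!
# Simple groups all of whose elements have prime power order
-/

set_option autoImplicit false
set_option linter.style.haveILetI false
set_option linter.unusedSectionVars false

namespace Cfsg.Agent.EPPO

open Cfsg.Agent.Zass MulAction

universe u v

variable {G : Type u} [Group G] [Finite G]

/-- Every element has prime power order. -/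
def IsEPPO (G : Type u) [Group G] : Prop := ∀ g : G, g ≠ 1 → IsPrimePow (orderOf g)

/-- A simple group with abelian kernel is a `PSL(2, q)`. -/
theorem psl_of_abelian {Ω : Type v} [MulAction G Ω] [Fintype Ω] [IsSimpleGroup G] {a b : Ω}
    {H : Subgroup G} (D : ZassKer.Ker a b H) (hna : ∀ u ∈ H, ∀ v ∈ H, u * v = v * u) :
    ∃ (F : Type) (_ : Field F) (_ : Fintype F),
      Nonempty (G ≃* Matrix.ProjectiveSpecialLinearGroup (Fin 2) F) := by
  classical
  have A := D.ab hna
  rcases Nat.even_or_odd (Nat.card (two (G := G) a b)) with hev | hodd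
  · obtain ⟨F, i1, i2, -, h⟩ := A.psl_of_simple hev
    exact ⟨F, i1, i2, h⟩
  rcases A.main with ⟨h3, hs⟩ | ⟨F, i1, i2, -, h⟩
  · rcases A.dichotomy with heq | ⟨heq, s, hs', -⟩
    · have hh : Even (Nat.card H) := by
        rw [heq] at hodd
        have := D.two_le
        obtain ⟨k, hk⟩ := hodd
        exact ⟨k + 1, by omega⟩
      obtain ⟨p, f, hp, hf, hpf⟩ := (isPrimePow_nat_iff _).mp D.isPrimePow
      have hp2 : p = 2 := by
        rw [← hpf] at hh
        exact ((Nat.prime_dvd_prime_iff_eq Nat.prime_two hp).mp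
          (Nat.prime_two.dvd_of_dvd_pow hh.two_dvd)).symm
      subst hp2
      have hcard : Nat.card Ω = 2 ^ f + 1 := by rw [Nat.card_eq_fintype_card, ← D.card, hpf]
      obtain ⟨e1⟩ := SharpEven.equiv_pgl hf hcard (SharpEven.sharp3_of_pretransitive h3 hs)
      haveI : Fintype (GaloisField 2 f) := Fintype.ofFinite _
      obtain ⟨e2⟩ := SharpEven.psl_equiv_pgl (F := GaloisField 2 f) (f := f)
        (by rw [← Nat.card_eq_fintype_card, GaloisField.card 2 f (by omega)])
      exact ⟨GaloisField 2 f, inferInstance, inferInstance, ⟨e1.trans e2.symm⟩⟩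
    · obtain ⟨F, i1, i2, φ, lam, hφ, hadd, hlam, hact⟩ := A.exists_field heq (by
        intro k hk l hl
        have hinv := A.inv_odd heq hodd hs'
        refine inv_injective ?_
        rw [← hinv _ (mul_mem hk hl), ← hinv _ (mul_mem hl hk)]
        calc s * (k * l) * s = (s * k * s) * (s * l * s) := by
              rw [show s * k * s * (s * l * s) = s * k * (s * s) * l * s by group, hs'.sq]; group
          _ = (l * k)⁻¹ := by rw [hinv k hk, hinv l hl]; group
          _ = s * (l * k) * s := (hinv _ (mul_mem hl hk)).symm)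
      exact ⟨F, i1, i2, (A.equiv_psl φ lam hφ hadd hlam hact heq hs' (A.inv_odd heq hodd hs')).2⟩
  · exact ⟨F, i1, i2, h⟩

/-- In such a group commuting elements of coprime order are trivial. -/
theorem IsEPPO.coprime (h : IsEPPO G) {x y : G} (hc : Commute x y)
    (hco : (orderOf x).Coprime (orderOf y)) : x = 1 ∨ y = 1 := by
  by_contra hne
  push Not at hne
  obtain ⟨p, hp, hpx⟩ := Nat.exists_prime_and_dvd (fun e => hne.1 (orderOf_eq_one_iff.mp e))
  obtain ⟨r, hr, hry⟩ := Nat.exists_prime_and_dvd (fun e => hne.2 (orderOf_eq_one_iff.mp e))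
  have ho : orderOf (x * y) = orderOf x * orderOf y := hc.orderOf_mul_eq_mul_orderOf_of_coprime hco
  have hxy : x * y ≠ 1 := fun e => by
    rw [e, orderOf_one] at ho
    exact hp.not_dvd_one (ho ▸ hpx.mul_right _)
  have hu := (isPrimePow_iff_unique_prime_dvd.mp (h _ hxy)).unique (y₁ := p) (y₂ := r)
    ⟨hp, ho ▸ hpx.mul_right _⟩ ⟨hr, ho ▸ hry.mul_left _⟩
  subst hu
  exact hp.not_dvd_one (Nat.Coprime.eq_one_of_dvd (hco.coprime_dvd_left hpx) hry ▸ dvd_refl p)

theorem IsEPPO.cit (h : IsEPPO G) : CNSimple.CIT G := by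
  intro t ht x
  by_cases hx : (x : G) = 1
  · exact ⟨0, Subtype.ext (by simpa using hx)⟩
  obtain ⟨p, k, hp, hk, e⟩ := (isPrimePow_nat_iff _).mp (h _ hx)
  by_cases hp2 : p = 2
  · subst hp2
    exact ⟨k, Subtype.ext (by rw [Subgroup.coe_pow, e, pow_orderOf_eq_one]; rfl)⟩
  · exfalso
    have hco : (orderOf (x : G)).Coprime (orderOf t) := by
      rw [← e, ht]
      exact Nat.Coprime.pow_left _ ((Nat.coprime_primes hp Nat.prime_two).mpr hp2)
    rcases h.coprime (Subgroup.mem_centralizer_singleton_iff.mp x.2) hco with h1 | h1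
    · exact hx h1
    · rw [h1, orderOf_one] at ht
      omega

/-- An abelian subgroup has prime power order. -/
theorem IsEPPO.card_pp (h : IsEPPO G) (T : Subgroup G) (hT : ∀ x ∈ T, ∀ y ∈ T, x * y = y * x) :
    PP (Nat.card T) := by
  by_cases h1 : Nat.card T = 1
  · exact Or.inl h1
  obtain ⟨p, hp, hpT⟩ := Nat.exists_prime_and_dvd h1
  refine Or.inr (isPrimePow_iff_unique_prime_dvd.mpr ⟨p, ⟨hp, hpT⟩, fun r ⟨hr, hrT⟩ => ?_⟩)
  by_contra hne
  haveI := Fact.mk hp
  haveI := Fact.mk hr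
  obtain ⟨x, hx⟩ := exists_prime_orderOf_dvd_card' (G := T) p hpT
  obtain ⟨y, hy⟩ := exists_prime_orderOf_dvd_card' (G := T) r hrT
  rw [← Subgroup.orderOf_coe] at hx hy
  rcases h.coprime (hT x x.2 y y.2) (by rw [hx, hy]; exact (Nat.coprime_primes hp hr).mpr (Ne.symm hne))
    with e | e
  · rw [e, orderOf_one] at hx; exact hp.one_lt.ne hx
  · rw [e, orderOf_one] at hy; exact hr.one_lt.ne hy

theorem three_dvd_psl (F : Type*) [Field F] [Finite F] :
    3 ∣ Nat.card (Matrix.ProjectiveSpecialLinearGroup (Fin 2) F) := by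
  let g : Matrix.SpecialLinearGroup (Fin 2) F := ⟨!![0, -1; 1, -1], by simp [Matrix.det_fin_two]⟩
  have h3 : g ^ 3 = 1 := Subtype.ext (by
    rw [Matrix.SpecialLinearGroup.coe_pow, pow_succ, pow_two]
    ext i j
    fin_cases i <;> fin_cases j <;> simp [g, Matrix.mul_apply, Fin.sum_univ_two])
  have hne : PSL2Inv.pr g ≠ 1 := fun e => by
    rcases PSL2Inv.pr_eq_one_iff.1 e with e' | e' <;>
    · have := congrArg (fun m : Matrix.SpecialLinearGroup (Fin 2) F => m.1 1 0) e'
      simp [g, SL2Inv.coe_negOne] at this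
  haveI : Fact (Nat.Prime 3) := ⟨Nat.prime_three⟩
  rw [← orderOf_eq_prime (show PSL2Inv.pr g ^ 3 = 1 by rw [← map_pow, h3, map_one]) hne]
  exact orderOf_dvd_natCard _

theorem not_three_dvd_suzuki (m : ℕ) :
    ¬ 3 ∣ (2 ^ (2 * m + 1)) ^ 2 * ((2 ^ (2 * m + 1)) ^ 2 + 1) * (2 ^ (2 * m + 1) - 1) := by
  have h := (two_pow_mod_three (2 * m + 1)).2 ⟨m, rfl⟩
  generalize 2 ^ (2 * m + 1) = q at h ⊢
  intro hd
  rcases (Nat.prime_three.dvd_mul).mp hd with hd | hd
  · rcases (Nat.prime_three.dvd_mul).mp hd with hd | hd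
    · have := Nat.prime_three.dvd_of_dvd_pow hd
      omega
    · have : (q ^ 2 + 1) % 3 = 2 := by rw [Nat.add_mod, Nat.pow_mod, h]
      omega
  · omega

/-- The conclusion of the classification. -/
def Listed (G : Type u) [Group G] : Prop :=
  Nonempty (G ≃* alternatingGroup (Fin 6)) ∨
    (∃ (F : Type) (_ : Field F) (_ : Fintype F), Fintype.card F ∈ ({4, 7, 8, 17} : Finset ℕ) ∧
      Nonempty (G ≃* Matrix.ProjectiveSpecialLinearGroup (Fin 2) F)) ∨
    (∃ (F : Type) (_ : Field F) (_ : Fintype F), Fintype.card F = 4 ∧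
      Nonempty (G ≃* Matrix.ProjectiveSpecialLinearGroup (Fin 3) F)) ∨
    (∃ (F : Type) (_ : Field F) (_ : Fintype F),
      (Fintype.card F = 8 ∧ Nonempty (G ≃* ↥(Cfsg.Lie.Sz F 4))) ∨
        (Fintype.card F = 32 ∧ Nonempty (G ≃* ↥(Cfsg.Lie.Sz F 8))))

theorem listed_of_psl [IsSimpleGroup G] (hna : ¬ IsMulCommutative G) (h : IsEPPO G) {F : Type}
    [Field F] [Fintype F] (e : G ≃* Matrix.ProjectiveSpecialLinearGroup (Fin 2) F)
    (hq : Fintype.card F = 9 ∨ (∃ n, Fintype.card F = 2 ^ n) ∨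
      ((Fintype.card F).Prime ∧ ∃ k : ℕ, Fintype.card F = 2 ^ k + 1 ∨ Fintype.card F + 1 = 2 ^ k)) :
    Listed G := by
  rcases psl_cases hna h e hq with h | h
  · exact Or.inl h
  · exact Or.inr (Or.inl h)

/-- The Suzuki case. -/
theorem listed_of_suz [Fintype G] (h : IsEPPO G) {Ω : Type v} [MulAction G Ω] [Fintype Ω] {a b : Ω}
    {H : Subgroup G} (S : ZassSuz.Suz a b H) : Listed G := by
  obtain ⟨n, hn2, hn⟩ := S.exists_pow
  obtain ⟨m, rfl⟩ := S.odd_exponent hn
  obtain ⟨T, T', hT, hT', hs, hp⟩ := SzSmall.torus_pair S hn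
  have hpp : ∀ T : Subgroup G, ZassSuz.IsTorus Ω T → PP (Nat.card T) := fun T hT => by
    obtain ⟨-, -, -, hcomm⟩ := S.torus_inv hT
    exact h.card_pp T hcomm
  have hm := suzuki_cases hs hp (hpp T hT) (hpp T' hT')
  right; right; right
  rcases (by omega : m = 1 ∨ m = 2) with rfl | rfl
  · exact ⟨SzSmall.Tab.El SzSmall.T3, inferInstance, inferInstance, Or.inl
      ⟨SzSmall.Tab.card_El, SzSmall.recog8 S (by rw [hn]; rfl)⟩⟩
  · exact ⟨SzSmall.Tab.El SzSmall.T5, inferInstance, inferInstance, Or.inr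
      ⟨SzSmall.Tab.card_El, SzSmall.recog32 S (by rw [hn]; rfl)⟩⟩

/-- The classification of simple groups in which the centralisers of involutions are `2`-groups, as
used here. -/
def CITSimple : Prop :=
  ∀ (G : Type u) [Group G] [Finite G] [IsSimpleGroup G], ¬ IsMulCommutative G → CNSimple.CIT G →
    (∃ K : Subgroup G, CNSimple.TIHyp K) ∨ CNSimple.IsOddPSL G ∨ CNSimple.IsL34 G

theorem listed_of_ti [IsSimpleGroup G] (hna : ¬ IsMulCommutative G) (h : IsEPPO G) {K : Subgroup G}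
    (hK : CNSimple.TIHyp K) : Listed G := by
  classical
  haveI : Fintype G := Fintype.ofFinite G
  haveI : Fintype (G ⧸ hK.N) := Fintype.ofFinite _
  rcases hK.main with ⟨F, _, _, n, hn, ⟨e⟩⟩ | ⟨-, m, -, hcard⟩
  · exact listed_of_psl hna h e (Or.inr (Or.inl ⟨n, hn⟩))
  have hZ := hK.zassenhaus
  obtain ⟨g, -, a, b, hab, -, -⟩ := hZ.2.2.2.1
  obtain ⟨H, D⟩ := ZassKer.exists_ker hZ hab
  by_cases hH : ∃ u ∈ H, ∃ v ∈ H, u * v ≠ v * u
  · exact listed_of_suz h (ZassSuz.Suz.of_ker D hH)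
  push Not at hH
  obtain ⟨F, _, _, ⟨e⟩⟩ := psl_of_abelian D hH
  refine absurd ?_ (not_three_dvd_suzuki m)
  rw [← hcard, Nat.card_congr e.toEquiv]
  exact three_dvd_psl F

/-- Simple groups all of whose elements have prime power order. -/
theorem simple_listed (hC : CITSimple.{u}) [IsSimpleGroup G] (hna : ¬ IsMulCommutative G) (h : IsEPPO G) :
    Listed G := by
  rcases hC G hna h.cit with ⟨K, hK⟩ | ⟨F, _, _, hq, ⟨e⟩⟩ | hL
  · exact listed_of_ti hna h hK
  · exact listed_of_psl hna h e (hq.imp id Or.inr)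
  · exact Or.inr (Or.inr (Or.inl hL))

end Cfsg.Agent.EPPO
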