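import Cfsg.Agent.Lib.EPPO.Simple
import Cfsg.Agent.S1475
import Cfsg.Agent.Lib.Steiner.PlanePSL

/-!
# Groups all of whose elements have prime power order: at most four primes
-/

set_option autoImplicit false
set_option linter.style.haveILetI false
set_option linter.unusedSectionVars false

namespace Cfsg.Agent.EPPO

universe u

/-- The classification of non-solvable CN groups up to the structure of the normal `2`-subgroup, as used here. -/
def CNNonsolvable : Prop :=
  ∀ (G : Type u) [Group G] [Finite G], ¬ Group.IsSolvable G → Cfsg.IsCNGroup G →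
    (IsSimpleGroup G ∧ ¬ IsMulCommutative G) ∨
    (∃ (N : Subgroup G), N.Normal ∧ N.index = 2 ∧ ∃ (F : Type) (_ : Field F) (_ : Fintype F),
        Fintype.card F = 9 ∧ Nonempty (N ≃* Matrix.ProjectiveSpecialLinearGroup (Fin 2) F)) ∨
    (∃ (N : Subgroup G) (_ : N.Normal), N ≠ ⊥ ∧ IsPGroup 2 N ∧
        ((∃ (F : Type) (_ : Field F) (_ : Fintype F), CharP F 2 ∧ 4 ≤ Fintype.card F ∧
            Nonempty (G ⧸ N ≃* Matrix.ProjectiveSpecialLinearGroup (Fin 2) F)) ∨ Cfsg.IsSuzuki (G ⧸ N)))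

variable {G : Type u} [Group G] [Finite G]

theorem IsEPPO.cn (h : IsEPPO G) : Cfsg.IsCNGroup G := by
  intro g hg
  obtain ⟨p, k, hp, hk, e⟩ := (isPrimePow_nat_iff _).mp (h g hg)
  haveI := Fact.mk hp
  refine IsPGroup.isNilpotent (p := p) ?_
  intro x
  by_cases hx : (x : G) = 1
  · exact ⟨0, Subtype.ext (by simpa using hx)⟩
  obtain ⟨r, l, hr, hl, e'⟩ := (isPrimePow_nat_iff _).mp (h _ hx)
  by_cases hrp : r = p
  · subst hrp
    exact ⟨l, Subtype.ext (by rw [Subgroup.coe_pow, e', pow_orderOf_eq_one]; rfl)⟩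
  · exfalso
    have hco : (orderOf (x : G)).Coprime (orderOf g) := by
      rw [← e, ← e']
      exact Nat.Coprime.pow _ _ ((Nat.coprime_primes hr hp).mpr hrp)
    rcases h.coprime (Subgroup.mem_centralizer_singleton_iff.mp x.2) hco with h1 | h1
    · exact hx h1
    · exact hg h1

theorem IsEPPO.quotient (h : IsEPPO G) (N : Subgroup G) [N.Normal] : IsEPPO (G ⧸ N) := by
  intro x hx
  obtain ⟨g, rfl⟩ := QuotientGroup.mk_surjective x
  have hd : orderOf (g : G ⧸ N) ∣ orderOf g := orderOf_map_dvd (QuotientGroup.mk' N) g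
  exact (h g fun e => hx (by rw [e]; rfl)).dvd hd (fun e => hx (orderOf_eq_one_iff.mp e))

theorem card_psl_two (F : Type*) [Field F] [Fintype F] :
    Nat.gcd 2 (Fintype.card F - 1) * Nat.card (Matrix.ProjectiveSpecialLinearGroup (Fin 2) F) =
      (Fintype.card F ^ 2 - 1) * Fintype.card F := by
  have h := ClassicalSL.card_psl_mul (ι := Fin 2) (F := F)
  rw [ClassicalSL.card_gl_fin (q := Fintype.card F) Nat.card_eq_fintype_card, Fintype.card_fin,
    Nat.card_eq_fintype_card (α := F)] at h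
  have hq := Fintype.one_lt_card (α := F)
  simp only [Fin.prod_univ_two, Fin.val_zero, Fin.val_one, pow_zero, pow_one] at h
  have e : (Fintype.card F ^ 2 - 1) * (Fintype.card F ^ 2 - Fintype.card F) =
      (Fintype.card F - 1) * ((Fintype.card F ^ 2 - 1) * Fintype.card F) := by
    rw [show Fintype.card F ^ 2 - Fintype.card F = (Fintype.card F - 1) * Fintype.card F by
      rw [Nat.sub_mul, sq, one_mul]]
    ring
  rw [e, ← mul_assoc, mul_comm _ (Fintype.card F - 1), mul_assoc] at h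
  exact Nat.eq_of_mul_eq_mul_left (by omega) h

theorem primeFactors_le {n : ℕ} (_hn : n ≠ 0) (s : Finset ℕ) {k : ℕ} (hd : n ∣ (∏ p ∈ s, p) ^ k)
    (hs : ∀ p ∈ s, p.Prime) : n.primeFactors ⊆ s := by
  intro p hp
  obtain ⟨hp', hpn, -⟩ := Nat.mem_primeFactors.mp hp
  obtain ⟨r, hr, hpr⟩ := (Prime.dvd_finsetProd_iff (S := s) (Nat.prime_iff.mp hp') _).mp
    (hp'.dvd_of_dvd_pow (hpn.trans hd))
  rwa [(Nat.prime_dvd_prime_iff_eq hp' (hs r hr)).mp hpr]

theorem psl_two_primes {F : Type*} [Field F] [Fintype F]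
    (hF : Fintype.card F ∈ ({4, 7, 8, 17} : Finset ℕ)) :
    2 ∈ (Nat.card (Matrix.ProjectiveSpecialLinearGroup (Fin 2) F)).primeFactors ∧
      (Nat.card (Matrix.ProjectiveSpecialLinearGroup (Fin 2) F)).primeFactors.card ≤ 3 := by
  have h := card_psl_two F
  simp only [Finset.mem_insert, Finset.mem_singleton] at hF
  rcases hF with e | e | e | e <;> rw [e] at h <;> norm_num at h
  · rw [show Nat.card (Matrix.ProjectiveSpecialLinearGroup (Fin 2) F) = 60 by omega]
    exact ⟨Nat.mem_primeFactors.mpr ⟨Nat.prime_two, by norm_num, by norm_num⟩,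
      (Finset.card_le_card (primeFactors_le (by norm_num) {2, 3, 5} (k := 2) (by norm_num) (by decide))).trans
        (by decide)⟩
  · rw [show Nat.card (Matrix.ProjectiveSpecialLinearGroup (Fin 2) F) = 168 by omega]
    exact ⟨Nat.mem_primeFactors.mpr ⟨Nat.prime_two, by norm_num, by norm_num⟩,
      (Finset.card_le_card (primeFactors_le (by norm_num) {2, 3, 7} (k := 3) (by norm_num) (by decide))).trans
        (by decide)⟩
  · rw [show Nat.card (Matrix.ProjectiveSpecialLinearGroup (Fin 2) F) = 504 by omega]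
    exact ⟨Nat.mem_primeFactors.mpr ⟨Nat.prime_two, by norm_num, by norm_num⟩,
      (Finset.card_le_card (primeFactors_le (by norm_num) {2, 3, 7} (k := 3) (by norm_num) (by decide))).trans
        (by decide)⟩
  · rw [show Nat.card (Matrix.ProjectiveSpecialLinearGroup (Fin 2) F) = 2448 by omega]
    exact ⟨Nat.mem_primeFactors.mpr ⟨Nat.prime_two, by norm_num, by norm_num⟩,
      (Finset.card_le_card (primeFactors_le (by norm_num) {2, 3, 17} (k := 4) (by norm_num) (by decide))).trans
        (by decide)⟩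

theorem a6_primes : 2 ∈ (Nat.card (alternatingGroup (Fin 6))).primeFactors ∧
    (Nat.card (alternatingGroup (Fin 6))).primeFactors.card ≤ 3 := by
  have h : Nat.card (alternatingGroup (Fin 6)) = 360 := by
    rw [nat_card_alternatingGroup, Nat.card_fin]; rfl
  rw [h]
  exact ⟨Nat.mem_primeFactors.mpr ⟨Nat.prime_two, by norm_num, by norm_num⟩,
    (Finset.card_le_card (primeFactors_le (by norm_num) {2, 3, 5} (k := 3) (by norm_num) (by decide))).trans
      (by decide)⟩

theorem sz_primes {F : Type*} [Field F] [Fintype F] :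
    (Fintype.card F = 8 → 2 ∈ (Nat.card ↥(Cfsg.Lie.Sz F 4)).primeFactors ∧
      (Nat.card ↥(Cfsg.Lie.Sz F 4)).primeFactors.card ≤ 4) ∧
    (Fintype.card F = 32 → 2 ∈ (Nat.card ↥(Cfsg.Lie.Sz F 8)).primeFactors ∧
      (Nat.card ↥(Cfsg.Lie.Sz F 8)).primeFactors.card ≤ 4) := by
  constructor <;> intro hc
  · have h : Suzuki.SzField F 1 := ⟨le_rfl, hc⟩
    rw [show Cfsg.Lie.Sz F 4 = Cfsg.Lie.Sz F (2 ^ (1 + 1)) from rfl,
      ← Nat.card_congr (Suzuki.minorEquiv h).toEquiv, Suzuki.card_Sz h]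
    exact ⟨Nat.mem_primeFactors.mpr ⟨Nat.prime_two, by norm_num, by norm_num⟩,
      (Finset.card_le_card (primeFactors_le (by norm_num) {2, 5, 7, 13} (k := 6) (by norm_num) (by decide))).trans
        (by decide)⟩
  · have h : Suzuki.SzField F 2 := ⟨by norm_num, hc⟩
    rw [show Cfsg.Lie.Sz F 8 = Cfsg.Lie.Sz F (2 ^ (2 + 1)) from rfl,
      ← Nat.card_congr (Suzuki.minorEquiv h).toEquiv, Suzuki.card_Sz h]
    exact ⟨Nat.mem_primeFactors.mpr ⟨Nat.prime_two, by norm_num, by norm_num⟩,
      (Finset.card_le_card (primeFactors_le (by norm_num) {2, 5, 31, 41} (k := 10) (by norm_num) (by decide))).trans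
        (by decide)⟩

open scoped Classical in
theorem card_psl34 {F : Type} [Field F] [Fintype F] (hF : Fintype.card F = 4) :
    Nat.card (Matrix.ProjectiveSpecialLinearGroup (Fin 3) F) = 20160 := by
  letI : Fintype (Projectivization F (Fin 3 → F)) := Fintype.ofFinite _
  exact PlanePSL.card_psl hF

/-- The conclusion about four primes. -/
def FourPrimes (G : Type u) [Group G] : Prop :=
  (Nat.card G).primeFactors.card ≤ 4 ∧
    ((Nat.card G).primeFactors.card = 4 →
      (∃ (F : Type) (_ : Field F) (_ : Fintype F), Fintype.card F = 4 ∧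
        Nonempty (G ≃* Matrix.ProjectiveSpecialLinearGroup (Fin 3) F)) ∨
      (∃ (N : Subgroup G) (_ : N.Normal), IsPGroup 2 ↥N ∧
        ∃ (F : Type) (_ : Field F) (_ : Fintype F),
          (Fintype.card F = 8 ∧ Nonempty (G ⧸ N ≃* ↥(Cfsg.Lie.Sz F 4))) ∨
          (Fintype.card F = 32 ∧ Nonempty (G ⧸ N ≃* ↥(Cfsg.Lie.Sz F 8)))))

theorem primes_of_quotient (N : Subgroup G) [N.Normal] (hN : IsPGroup 2 N)
    (h2 : 2 ∈ (Nat.card (G ⧸ N)).primeFactors) :
    (Nat.card G).primeFactors = (Nat.card (G ⧸ N)).primeFactors := by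
  haveI : Fact (Nat.Prime 2) := ⟨Nat.prime_two⟩
  obtain ⟨k, hk⟩ := IsPGroup.iff_card.mp hN
  rw [Subgroup.card_eq_card_quotient_mul_card_subgroup N, hk,
    Nat.primeFactors_mul Nat.card_pos.ne' (by positivity), Finset.union_eq_left]
  intro p hp
  obtain ⟨hp', hpd, -⟩ := Nat.mem_primeFactors.mp hp
  rwa [(Nat.prime_dvd_prime_iff_eq hp' Nat.prime_two).mp (hp'.dvd_of_dvd_pow hpd)]

theorem fourPrimes_simple (hC : CITSimple.{u}) [IsSimpleGroup G] (hna : ¬ IsMulCommutative G)
    (h : IsEPPO G) : FourPrimes G := by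
  rcases simple_listed hC hna h with ⟨⟨e⟩⟩ | ⟨F, _, _, hF, ⟨e⟩⟩ | ⟨F, i1, i2, hF, he⟩ | ⟨F, i1, i2, hF⟩
  · rw [FourPrimes, Nat.card_congr e.toEquiv]
    have := a6_primes.2
    exact ⟨by omega, fun e' => by omega⟩
  · rw [FourPrimes, Nat.card_congr e.toEquiv]
    have := (psl_two_primes hF).2
    exact ⟨by omega, fun e' => by omega⟩
  · refine ⟨?_, fun _ => Or.inl ⟨F, i1, i2, hF, he⟩⟩
    rw [Nat.card_congr he.some.toEquiv, card_psl34 hF]
    exact (Finset.card_le_card (primeFactors_le (by norm_num) {2, 3, 5, 7} (k := 6) (by norm_num) (by decide))).trans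
      (by decide)
  · have hbot : IsPGroup 2 (⊥ : Subgroup G) := IsPGroup.of_bot
    let e0 : G ⧸ (⊥ : Subgroup G) ≃* G := QuotientGroup.quotientBot
    refine ⟨?_, fun _ => Or.inr ⟨⊥, inferInstance, hbot, F, i1, i2,
      hF.imp (fun h => ⟨h.1, ⟨e0.trans h.2.some⟩⟩) (fun h => ⟨h.1, ⟨e0.trans h.2.some⟩⟩)⟩⟩
    rcases hF with ⟨hc, ⟨e⟩⟩ | ⟨hc, ⟨e⟩⟩
    · rw [Nat.card_congr e.toEquiv]; exact (sz_primes.1 hc).2
    · rw [Nat.card_congr e.toEquiv]; exact (sz_primes.2 hc).2

theorem fourPrimes (hC : CITSimple.{u}) (hN : CNNonsolvable.{u}) (h : IsEPPO G) : FourPrimes G := by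
  by_cases hs : Group.IsSolvable G
  · haveI := hs
    have h2 := S1475.result (G := G) fun g => (em (g = 1)).symm.imp (h g) id
    exact ⟨by omega, fun e => by omega⟩
  rcases hN G hs h.cn with ⟨hsimple, hna⟩ | ⟨N, -, hidx, F, _, _, hF, ⟨e⟩⟩ | ⟨N, _, -, h2, hQ⟩
  · haveI := hsimple
    exact fourPrimes_simple hC hna h
  · have hc : Nat.card G = 720 := by
      have h9 := card_psl_two F
      rw [hF, show Nat.gcd 2 (9 - 1) = 2 by rfl] at h9
      rw [← Subgroup.card_mul_index N, hidx, Nat.card_congr e.toEquiv]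
      omega
    have h3 : (Nat.card G).primeFactors.card ≤ 3 := by
      rw [hc]
      exact (Finset.card_le_card (primeFactors_le (by norm_num) {2, 3, 5} (k := 4) (by norm_num) (by decide))).trans
        (by decide)
    exact ⟨by omega, fun e => by omega⟩
  · have hE := h.quotient N
    have hsn : IsSimpleGroup (G ⧸ N) ∧ ¬ IsMulCommutative (G ⧸ N) := by
      have h12 : IsSimpleGroup (G ⧸ N) ∧ 4 ∣ Nat.card (G ⧸ N) := by
        rcases hQ with ⟨F, _, _, _, h4, ⟨e⟩⟩ | ⟨hs', m, -, hc⟩
        · haveI : IsSimpleGroup (Matrix.ProjectiveSpecialLinearGroup (Fin 2) F) :=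
            Matrix.ProjectiveSpecialLinearGroup.rank_two_simple (by rw [Nat.card_eq_fintype_card]; omega)
          haveI : Nontrivial (G ⧸ N) := e.toEquiv.nontrivial
          refine ⟨IsSimpleGroup.isSimpleGroup_of_surjective e.symm.toMonoidHom e.symm.surjective, ?_⟩
          rw [Nat.card_congr e.toEquiv]
          have hc := card_psl_two F
          obtain ⟨p, -, hpn⟩ := FiniteField.card F 2
          have hg : Nat.gcd 2 (Fintype.card F - 1) = 1 := by
            refine Nat.prime_two.coprime_iff_not_dvd.mpr fun hd => ?_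
            have : 2 ∣ Fintype.card F := hpn ▸ dvd_pow_self 2 p.ne_zero
            omega
          rw [hg, one_mul] at hc
          rw [hc]
          refine Dvd.dvd.mul_left ?_ _
          rw [hpn] at h4 ⊢
          refine pow_dvd_pow 2 (m := 2) ?_
          by_contra hlt
          have := Nat.pow_le_pow_right (n := 2) (by norm_num) (show (p : ℕ) ≤ 1 by omega)
          omega
        · refine ⟨hs', ?_⟩
          rw [hc]
          refine Dvd.dvd.mul_right (Dvd.dvd.mul_right ?_ _) _
          rw [← pow_mul]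
          exact pow_dvd_pow 2 (m := 2) (by omega)
      refine ⟨h12.1, fun hcomm => ?_⟩
      haveI := h12.1
      letI : CommGroup (G ⧸ N) := { (inferInstance : Group (G ⧸ N)) with mul_comm := hcomm.is_comm.comm }
      have hp := (IsSimpleGroup.prime_card (α := G ⧸ N))
      rcases hp.eq_one_or_self_of_dvd 4 h12.2 with h | h
      · omega
      · exact absurd (h ▸ hp) (by norm_num)
    haveI := hsn.1
    rcases simple_listed hC hsn.2 hE with ⟨⟨e⟩⟩ | ⟨F, _, _, hF, ⟨e⟩⟩ | ⟨F, i1, i2, hF, he⟩ | ⟨F, i1, i2, hF⟩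
    · have hq := a6_primes
      rw [← Nat.card_congr e.toEquiv] at hq
      rw [FourPrimes, primes_of_quotient N h2 hq.1]
      exact ⟨by omega, fun e => by omega⟩
    · have hq := psl_two_primes hF
      rw [← Nat.card_congr e.toEquiv] at hq
      rw [FourPrimes, primes_of_quotient N h2 hq.1]
      exact ⟨by omega, fun e => by omega⟩
    · exfalso
      have hc : Nat.card (G ⧸ N) = 20160 := by rw [Nat.card_congr he.some.toEquiv, card_psl34 hF]
      rcases hQ with ⟨F', _, _, _, h4, ⟨e⟩⟩ | ⟨-, m, -, hc'⟩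
      · rw [Nat.card_congr e.toEquiv] at hc
        have hc' := card_psl_two F'
        rw [hc] at hc'
        obtain ⟨p, -, hpn⟩ := FiniteField.card F' 2
        have hg : Nat.gcd 2 (Fintype.card F' - 1) = 1 := by
          refine Nat.prime_two.coprime_iff_not_dvd.mpr fun hd => ?_
          have : 2 ∣ Fintype.card F' := hpn ▸ dvd_pow_self 2 p.ne_zero
          omega
        rw [hg, one_mul, hpn] at hc'
        rcases (by omega : (p : ℕ) ≤ 4 ∨ 5 ≤ (p : ℕ)) with hp | hp
        · interval_cases hp' : (p : ℕ) <;> norm_num at hc'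
        · have h32 : 32 ≤ 2 ^ (p : ℕ) := le_trans (by norm_num) (Nat.pow_le_pow_right (n := 2) (by norm_num) hp)
          have : 1023 * 32 ≤ ((2 ^ (p : ℕ)) ^ 2 - 1) * 2 ^ (p : ℕ) := by
            refine Nat.mul_le_mul ?_ h32
            have := Nat.pow_le_pow_left h32 2
            omega
          omega
      · exact not_three_dvd_suzuki m (hc' ▸ hc.symm ▸ by norm_num)
    · have hq : 2 ∈ (Nat.card (G ⧸ N)).primeFactors ∧ (Nat.card (G ⧸ N)).primeFactors.card ≤ 4 := by
        rcases hF with ⟨hc, ⟨e⟩⟩ | ⟨hc, ⟨e⟩⟩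
        · rw [Nat.card_congr e.toEquiv]; exact sz_primes.1 hc
        · rw [Nat.card_congr e.toEquiv]; exact sz_primes.2 hc
      exact ⟨by rw [primes_of_quotient N h2 hq.1]; exact hq.2,
        fun _ => Or.inr ⟨N, inferInstance, h2, F, i1, i2, hF⟩⟩

end Cfsg.Agent.EPPO
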