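import Mathlib.RingTheory.ZMod.UnitsCyclic
import Mathlib.Data.Nat.Factorization.PrimePow
import Mathlib.Tactic

/-!
# Prime powers next to powers of two
-/

set_option autoImplicit false

namespace Cfsg.Agent.EPPO

/-- One or a prime power. -/
def PP (n : ℕ) : Prop := n = 1 ∨ IsPrimePow n

theorem PP.eq_three_pow {n : ℕ} (h : PP n) (h3 : 3 ∣ n) : ∃ b, n = 3 ^ b := by
  rcases h with rfl | h
  · exact ⟨0, rfl⟩
  obtain ⟨p, k, hp, -, rfl⟩ := (isPrimePow_nat_iff _).mp h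
  exact ⟨k, by rw [(Nat.prime_dvd_prime_iff_eq Nat.prime_three hp).mp (Nat.prime_three.dvd_of_dvd_pow h3)]⟩

theorem three_pow_mod_four (c : ℕ) : 3 ^ (2 * c + 1) % 4 = 3 := by
  rw [pow_succ, pow_mul, Nat.mul_mod, Nat.pow_mod]
  norm_num

/-- A power of three one above a power of two. -/
theorem two_pow_add_one {n b : ℕ} (h : 2 ^ n + 1 = 3 ^ b) : n ≤ 3 := by
  rcases Nat.even_or_odd' b with ⟨c, rfl | rfl⟩
  · rw [pow_mul', sq] at h
    have h1 : 1 ≤ 3 ^ c := Nat.one_le_pow _ _ (by norm_num)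
    have h2 : (3 ^ c + 1) * (3 ^ c - 1) = 2 ^ n := by
      rw [← Nat.mul_self_sub_mul_self_eq, one_mul]; exact Nat.sub_eq_of_eq_add h.symm
    obtain ⟨i, -, hi⟩ := (Nat.dvd_prime_pow Nat.prime_two).mp (h2 ▸ dvd_mul_right (3 ^ c + 1) (3 ^ c - 1))
    obtain ⟨j, -, hj⟩ := (Nat.dvd_prime_pow Nat.prime_two).mp (h2 ▸ dvd_mul_left (3 ^ c - 1) (3 ^ c + 1))
    have hji : j < i := (Nat.pow_lt_pow_iff_right (by norm_num : 1 < 2)).mp (by omega)
    have hj1 : j ≤ 1 := by
      by_contra hlt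
      have e1 : 2 ^ 2 ∣ 2 ^ i := pow_dvd_pow 2 (by omega)
      have e2 : 2 ^ 2 ∣ 2 ^ j := pow_dvd_pow 2 (by omega)
      omega
    have : 2 ^ j ≤ 2 := le_trans (Nat.pow_le_pow_right (by norm_num) hj1) le_rfl
    have hc : 3 ^ c ≤ 3 := by omega
    have : 2 ^ n ≤ 2 ^ 3 := by
      have := Nat.mul_le_mul hc hc
      omega
    exact (Nat.pow_le_pow_iff_right (by norm_num)).mp this
  · by_contra hn
    have h4 : 2 ^ 2 ∣ 2 ^ n := pow_dvd_pow 2 (by omega)
    have := three_pow_mod_four c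
    omega

/-- A power of three one below a power of two. -/
theorem two_pow_sub_one {n b : ℕ} (h : 2 ^ n - 1 = 3 ^ b) : n ≤ 2 := by
  rcases Nat.even_or_odd' n with ⟨c, rfl | rfl⟩
  · rw [pow_mul', sq] at h
    have h1 : 1 ≤ 2 ^ c := Nat.one_le_pow _ _ (by norm_num)
    have h2 : (2 ^ c + 1) * (2 ^ c - 1) = 3 ^ b := by rw [← Nat.mul_self_sub_mul_self_eq]; omega
    obtain ⟨i, -, hi⟩ := (Nat.dvd_prime_pow Nat.prime_three).mp (h2 ▸ dvd_mul_right (2 ^ c + 1) (2 ^ c - 1))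
    obtain ⟨j, -, hj⟩ := (Nat.dvd_prime_pow Nat.prime_three).mp (h2 ▸ dvd_mul_left (2 ^ c - 1) (2 ^ c + 1))
    by_contra hn
    have : 2 ^ 2 ≤ 2 ^ c := Nat.pow_le_pow_right (by norm_num) (by omega)
    have e1 : 3 ∣ 3 ^ i := dvd_pow_self 3 (fun e => by rw [e, pow_zero] at hi; omega)
    have e2 : 3 ∣ 3 ^ j := dvd_pow_self 3 (fun e => by rw [e, pow_zero] at hj; omega)
    omega
  · have h3 : 2 ^ (2 * c + 1) % 3 = 2 := by
      rw [pow_succ, pow_mul, Nat.mul_mod, Nat.pow_mod]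
      norm_num
    rcases b with _ | b
    · have h2 : 2 ^ (2 * c + 1) ≤ 2 ^ 1 := by omega
      have := (Nat.pow_le_pow_iff_right (by norm_num)).mp h2
      omega
    · rw [pow_succ] at h
      omega

theorem two_pow_mod_three (n : ℕ) : (Even n → 2 ^ n % 3 = 1) ∧ (Odd n → 2 ^ n % 3 = 2) := by
  constructor
  · rintro ⟨c, rfl⟩
    rw [← two_mul, pow_mul, Nat.pow_mod]; norm_num
  · rintro ⟨c, rfl⟩
    rw [pow_succ, pow_mul, Nat.mul_mod, Nat.pow_mod]; norm_num

/-- Both neighbours prime powers. -/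
theorem binary_cases {n : ℕ} (hm : PP (2 ^ n - 1)) (hp : PP (2 ^ n + 1)) : n ≤ 3 := by
  rcases Nat.even_or_odd n with he | ho
  · obtain ⟨b, hb⟩ := hm.eq_three_pow (by have := (two_pow_mod_three n).1 he; omega)
    exact le_trans (two_pow_sub_one hb) (by norm_num)
  · obtain ⟨b, hb⟩ := hp.eq_three_pow (by have := (two_pow_mod_three n).2 ho; omega)
    exact two_pow_add_one hb

/-- The Fermat primes in question. -/
theorem fermat_cases {p k : ℕ} (hp : p.Prime) (h : p = 2 ^ k + 1)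
    (hh : PP ((p + 1) / 2)) : p = 2 ∨ p = 3 ∨ p = 5 ∨ p = 17 := by
  rcases k with _ | k
  · exact Or.inl h
  have hdiv : (p + 1) / 2 = 2 ^ k + 1 := by rw [h, pow_succ]; omega
  rw [hdiv] at hh
  rcases Nat.even_or_odd k with he | ho
  · right; left
    have h3 : 3 ∣ p := Nat.dvd_of_mod_eq_zero (by
      rw [h, Nat.add_mod, (two_pow_mod_three (k + 1)).2 he.add_one])
    exact ((Nat.prime_dvd_prime_iff_eq Nat.prime_three hp).mp h3).symm
  · obtain ⟨b, hb⟩ := hh.eq_three_pow (by have := (two_pow_mod_three k).2 ho; omega)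
    have hk := two_pow_add_one hb
    obtain ⟨c, rfl⟩ := ho
    rcases (by omega : c = 0 ∨ c = 1) with rfl | rfl <;> norm_num at h <;> omega

/-- The Mersenne primes in question. -/
theorem mersenne_cases {p k : ℕ} (hp : p.Prime) (h : p + 1 = 2 ^ k)
    (hh : PP ((p - 1) / 2)) : p = 3 ∨ p = 7 := by
  have hk2 : 2 ≤ k := by
    by_contra hlt
    have := Nat.pow_le_pow_right (n := 2) (by norm_num) (show k ≤ 1 by omega)
    have := hp.two_le
    omega
  obtain ⟨k, rfl⟩ : ∃ l, k = l + 1 := ⟨k - 1, by omega⟩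
  have hdiv : (p - 1) / 2 = 2 ^ k - 1 := by
    have : 2 ^ (k + 1) = 2 * 2 ^ k := by rw [pow_succ, mul_comm]
    omega
  rw [hdiv] at hh
  rcases Nat.even_or_odd k with he | ho
  · obtain ⟨b, hb⟩ := hh.eq_three_pow (by have := (two_pow_mod_three k).1 he; omega)
    have hk := two_pow_sub_one hb
    obtain rfl : k = 2 := by obtain ⟨c, rfl⟩ := he; omega
    norm_num at h
    omega
  · left
    have h3 : 3 ∣ p := by
      have := (two_pow_mod_three (k + 1)).1 ho.add_one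
      rw [← h] at this
      omega
    exact ((Nat.prime_dvd_prime_iff_eq Nat.prime_three hp).mp h3).symm

/-- The torus orders of a Suzuki group are prime powers only for the two smallest fields. -/
theorem suzuki_cases {m t t' : ℕ} (hs : t + t' = 2 * 2 ^ (2 * m + 1) + 2)
    (hp : t * t' = (2 ^ (2 * m + 1)) ^ 2 + 1) (ht : PP t) (ht' : PP t') : m ≤ 2 := by
  by_contra hm
  obtain ⟨l, rfl⟩ : ∃ l, m = l + 3 := ⟨m - 3, by omega⟩
  set s := 2 ^ (l + 3 + 1) with hsdef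
  set h := 2 ^ (l + 3) with hhdef
  have hsh : s = 2 * h := by rw [hsdef, hhdef, pow_succ, mul_comm]
  have hh8 : 8 ≤ h := by
    rw [hhdef]; exact le_trans (by norm_num) (Nat.pow_le_pow_right (by norm_num) (show 3 ≤ l + 3 by omega))
  have hq : 2 ^ (2 * (l + 3) + 1) = s * h := by rw [hsdef, hhdef, ← pow_add]; congr 1; ring
  have h5 : 5 ∣ (2 ^ (2 * (l + 3) + 1)) ^ 2 + 1 := by
    rw [← pow_mul, show (2 * (l + 3) + 1) * 2 = 4 * (l + 3) + 2 by ring, pow_add, pow_mul]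
    refine Nat.dvd_of_mod_eq_zero ?_
    rw [Nat.add_mod, Nat.mul_mod, Nat.pow_mod]
    norm_num
  obtain ⟨a, u, hau, ha⟩ : ∃ a u : ℕ, (u = s * h + s + 1 ∨ u + s = s * h + 1) ∧ u = 5 ^ a := by
    rw [hq] at hs hp h5
    have key : (t = s * h + s + 1 ∨ t + s = s * h + 1) ∧ (t' = s * h + s + 1 ∨ t' + s = s * h + 1) := by
      have hz : ((t : ℤ) - (s * h + s + 1)) * ((t : ℤ) - (s * h - s + 1)) = 0 := by
        have e1 : (t : ℤ) + t' = 2 * (s * h : ℤ) + 2 := by exact_mod_cast hs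
        have e2 : (t : ℤ) * t' = ((s * h : ℤ)) ^ 2 + 1 := by exact_mod_cast hp
        have e3 : (s : ℤ) = 2 * h := by exact_mod_cast hsh
        linear_combination (t : ℤ) * e1 - e2 - (s : ℤ) * e3
      rcases mul_eq_zero.mp hz with e | e
      · have : (t : ℤ) = ((s * h + s + 1 : ℕ) : ℤ) := by push_cast; linarith
        have := Nat.cast_injective this
        omega
      · have : ((t + s : ℕ) : ℤ) = ((s * h + 1 : ℕ) : ℤ) := by push_cast; linarith
        have := Nat.cast_injective this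
        omega
    have five : ∀ u, PP u → 5 ∣ u → ∃ a, u = 5 ^ a := fun u hu h5 => by
      rcases hu with rfl | hu
      · exact ⟨0, rfl⟩
      obtain ⟨p, k, hpp, -, rfl⟩ := (isPrimePow_nat_iff _).mp hu
      exact ⟨k, by rw [(Nat.prime_dvd_prime_iff_eq Nat.prime_five hpp).mp (Nat.prime_five.dvd_of_dvd_pow h5)]⟩
    rcases (Nat.prime_five.dvd_mul).mp (hp.symm ▸ h5) with hd | hd
    · obtain ⟨a, ha⟩ := five t ht hd; exact ⟨a, t, key.1, ha⟩
    · obtain ⟨a, ha⟩ := five t' ht' hd; exact ⟨a, t', key.2, ha⟩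
  subst ha
  have hmod : ((5 : ZMod (2 ^ (l + 2 + 2))) ^ a) = 1 := by
    have hz : (s : ZMod (2 ^ (l + 2 + 2))) = 0 := by
      rw [hsdef, show l + 3 + 1 = l + 2 + 2 by ring]; exact ZMod.natCast_self _
    rcases hau with e | e
    · have e' := congrArg (Nat.cast : ℕ → ZMod (2 ^ (l + 2 + 2))) e
      push_cast at e'
      rw [hz] at e'
      simpa using e'
    · have e' := congrArg (Nat.cast : ℕ → ZMod (2 ^ (l + 2 + 2))) e
      push_cast at e'
      rw [hz] at e'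
      simpa using e'
  have hdvd : 2 ^ (l + 2) ∣ a := ZMod.orderOf_five (l + 2) ▸ orderOf_dvd_of_pow_eq_one hmod
  have ha1 : a ≠ 0 := fun e => by
    rw [e, pow_zero] at hau
    rcases hau with h' | h' <;> nlinarith
  have hle : 5 ^ 2 ^ (l + 2) ≤ s * h + s + 1 := by
    have := Nat.pow_le_pow_right (n := 5) (by norm_num) (Nat.le_of_dvd (Nat.pos_of_ne_zero ha1) hdvd)
    omega
  have hbig : ∀ l : ℕ, 4 ^ (l + 4) < 5 ^ 2 ^ (l + 2) := by
    intro l
    induction l with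
    | zero => norm_num
    | succ l ih =>
      rw [show 2 ^ (l + 1 + 2) = 2 ^ (l + 2) + 2 ^ (l + 2) by rw [show l + 1 + 2 = l + 2 + 1 by ring, pow_succ]; ring,
        pow_add 5, show 4 ^ (l + 1 + 4) = 4 ^ (l + 4) * 4 by ring]
      have : 4 ≤ 5 ^ 2 ^ (l + 2) := le_trans (le_trans (by norm_num) (Nat.le_self_pow (by omega) 4)) ih.le
      exact Nat.mul_lt_mul_of_lt_of_le ih this (by norm_num)
  have h4 : 4 ^ (l + 4) = s * s := by
    rw [hsdef, ← pow_add, show (4 : ℕ) = 2 ^ 2 by rfl, ← pow_mul]; congr 1; ring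
  have := hbig l
  rw [h4] at this
  have : s * h + s + 1 ≤ s * s := by
    rw [hsh]; nlinarith
  omega

end Cfsg.Agent.EPPO
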