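import Cfsg.Agent.Lib.EPPO.Main
import Cfsg.Agent.Lib.CNSimple.Final
import Cfsg.Agent.Lib.CNSimple.CITStructure

/-!
# The classification hypothesis holds
-/

set_option autoImplicit false

namespace Cfsg.Agent.EPPO

universe u

theorem citSimple : CITSimple.{u} := fun G _ _ _ hna hc =>
  CNSimple.cit_simple (by
    by_contra h
    push Not at h
    exact hna ⟨⟨h⟩⟩) hc

theorem cnNonsolvable : CNNonsolvable.{u} := fun G _ _ hns hCN => by
  rcases CNSimple.cn_structure hCN hns with h | h | ⟨X, hXn, hX1, hX, -, hQ⟩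
  · exact Or.inl h
  · exact Or.inr (Or.inl h)
  · exact Or.inr (Or.inr ⟨X, hXn, hX1, hX.isPGroup, hQ⟩)

end Cfsg.Agent.EPPO
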