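import Cfsg.Agent.Lib.EPPO.Arith
import Cfsg.Agent.Lib.Classical.SL2Tori
import Cfsg.Agent.Lib.Classical.PSL2Involutions
import Cfsg.Agent.Lib.GLFourTwo.LocalSubgroups
import Cfsg.Agent.S0252
import Cfsg.Agent.S0253
import Cfsg.Agent.S0254

/-!
# The groups `PSL(2, q)` all of whose elements have prime power order
-/

set_option autoImplicit false
set_option linter.style.haveILetI false
set_option linter.unusedSectionVars false
open scoped Classical

namespace Cfsg.Agent.EPPO

open SL2Inv

universe u

local notation "SL" F => Matrix.SpecialLinearGroup (Fin 2) F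
local notation "PSL" F => Matrix.ProjectiveSpecialLinearGroup (Fin 2) F

variable {F : Type u} [Field F] [Fintype F]

theorem negOne_eq_one (h2 : (2 : F) = 0) : (negOne : SL F) = 1 := Subtype.ext (by
  ext i j
  fin_cases i <;> fin_cases j <;> simp [coe_negOne] <;> linear_combination -h2)

/-- A ring isomorphism gives an isomorphism of the projective groups. -/
noncomputable def pslRingEquiv {n : ℕ} {K : Type*} [Field K] (σ : F ≃+* K) :
    Matrix.ProjectiveSpecialLinearGroup (Fin n) F ≃* Matrix.ProjectiveSpecialLinearGroup (Fin n) K :=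
  let f : Matrix.SpecialLinearGroup (Fin n) F ≃* Matrix.SpecialLinearGroup (Fin n) K :=
    MulEquiv.ofBijective (Matrix.SpecialLinearGroup.map (σ : F →+* K))
      ⟨fun x y e => Subtype.ext (Matrix.ext fun i j =>
        σ.injective (congrArg (fun m : Matrix.SpecialLinearGroup (Fin n) K => m.1 i j) e)),
      fun y => ⟨Matrix.SpecialLinearGroup.map (σ.symm : K →+* F) y, Subtype.ext (Matrix.ext fun i j =>
        σ.apply_symm_apply (y.1 i j))⟩⟩
  QuotientGroup.congr _ _ f (by
    ext y
    simp only [Subgroup.mem_map, Subgroup.mem_center_iff]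
    constructor
    · rintro ⟨x, hx, rfl⟩ z
      obtain ⟨z, rfl⟩ := f.surjective z
      exact ((map_mul f z x).symm.trans (congrArg f (hx z))).trans (map_mul f x z)
    · intro hy
      obtain ⟨x, rfl⟩ := f.surjective y
      refine ⟨x, fun z => f.injective ?_, rfl⟩
      rw [map_mul, map_mul, hy])

/-- The orders of the two tori. -/
theorem exists_orders : (∃ g : SL F, orderOf g = Fintype.card F - 1) ∧
    ∃ g : SL F, orderOf g = Fintype.card F + 1 := by
  constructor
  · obtain ⟨u, hu⟩ := IsCyclic.exists_ofOrder_eq_natCard (α := Fˣ)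
    let φ : Fˣ →* SL F :=
      { toFun := fun v => ⟨!![(v : F), 0; 0, ((v⁻¹ : Fˣ) : F)], by simp [Matrix.det_fin_two]⟩
        map_one' := Subtype.ext (by ext i j; fin_cases i <;> fin_cases j <;> simp)
        map_mul' := fun v w => Subtype.ext (by
          show _ = !![(v : F), 0; 0, ((v⁻¹ : Fˣ) : F)] * !![(w : F), 0; 0, ((w⁻¹ : Fˣ) : F)]
          ext i j; fin_cases i <;> fin_cases j <;>
            simp [Matrix.mul_apply, Fin.sum_univ_two, mul_comm]) }
    refine ⟨φ u, ?_⟩
    rw [orderOf_injective φ (fun v w e => Units.ext ?_) u, hu, Nat.card_eq_fintype_card, Fintype.card_units]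
    have := congrArg (fun m : SL F => m.1 0 0) e
    exact this
  · obtain ⟨g, hg⟩ := SL2Tori.exists_noEigen (F := F)
    haveI := SL2Tori.isCyclic_torus hg
    obtain ⟨γ, hγ⟩ := IsCyclic.exists_generator (α := SL2Tori.torus g)
    exact ⟨γ, by
      rw [Subgroup.orderOf_coe, orderOf_eq_card_of_forall_mem_zpowers hγ, SL2Tori.card_torus hg,
        Nat.card_eq_fintype_card]⟩

/-- An element order below gives one in the projective group. -/
theorem pp_of_order (h : ∀ g : PSL F, g ≠ 1 → IsPrimePow (orderOf g)) {g : SL F} {n k : ℕ}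
    (hn : orderOf g = n) (hk : n = 2 * k ∨ (2 : F) = 0 ∧ k = n) : PP k := by
  have hdj : k ∣ orderOf (PSL2Inv.pr g) := by
    set j := orderOf (PSL2Inv.pr g) with hj
    have h1 : PSL2Inv.pr (g ^ j) = 1 := by rw [map_pow, hj, pow_orderOf_eq_one]
    rcases hk with hk | ⟨h2, hk⟩
    · have h2 : g ^ (2 * j) = 1 := by
        rw [two_mul, pow_add]
        rcases PSL2Inv.pr_eq_one_iff.1 h1 with e | e <;> rw [e]
        · exact one_mul 1
        · exact negOne_mul_self
      have := orderOf_dvd_of_pow_eq_one h2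
      rw [hn, hk] at this
      exact (mul_dvd_mul_iff_left two_ne_zero).mp this
    · have h3 : g ^ j = 1 := by
        rcases PSL2Inv.pr_eq_one_iff.1 h1 with e | e
        · exact e
        · rw [e, negOne_eq_one h2]
      rw [hk, ← hn]
      exact orderOf_dvd_of_pow_eq_one h3
  by_cases h1 : k = 1
  · exact Or.inl h1
  right
  have hne : PSL2Inv.pr g ≠ 1 := fun e => h1 (Nat.dvd_one.mp (by rwa [e, orderOf_one] at hdj))
  exact (h _ hne).dvd hdj h1

theorem five_le_card {G : Type*} [Group G] [Finite G] [IsSimpleGroup G] (hna : ¬ IsMulCommutative G)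
    (e : G ≃* PSL F) : 4 ≤ Fintype.card F := by
  by_contra hlt
  have hc : Nat.card G < 37 := by
    rw [Nat.card_congr e.toEquiv]
    refine lt_of_le_of_lt (Nat.card_le_card_of_surjective _ PSL2Inv.pr_surjective) ?_
    rw [TwoByTwo.card_sl_two, Nat.card_eq_fintype_card]
    have := Fintype.one_lt_card (α := F)
    interval_cases h : Fintype.card F <;> norm_num
  haveI := A8Sub.solvable_small hc
  exact hna ⟨⟨IsSimpleGroup.comm_iff_isSolvable.mpr inferInstance⟩⟩

/-- The even case. -/
theorem even_cases (h : ∀ g : PSL F, g ≠ 1 → IsPrimePow (orderOf g)) {n : ℕ}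
    (hF : Fintype.card F = 2 ^ n) (h4 : 4 ≤ Fintype.card F) :
    Fintype.card F = 4 ∨ Fintype.card F = 8 := by
  have hn : 2 ≤ n := by
    by_contra hlt
    have := Nat.pow_le_pow_right (n := 2) (by norm_num) (show n ≤ 1 by omega)
    omega
  haveI : Fact (Nat.Prime 2) := ⟨Nat.prime_two⟩
  haveI : CharP F 2 := charP_of_card_eq_prime_pow hF
  have h2 : (2 : F) = 0 := CharTwo.two_eq_zero
  obtain ⟨⟨g, hg⟩, g', hg'⟩ := exists_orders (F := F)
  have hc := binary_cases (n := n) (hF ▸ pp_of_order h hg (Or.inr ⟨h2, rfl⟩))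
    (hF ▸ pp_of_order h hg' (Or.inr ⟨h2, rfl⟩))
  interval_cases n <;> simp [hF]

/-- The odd case of prime order. -/
theorem odd_cases (h : ∀ g : PSL F, g ≠ 1 → IsPrimePow (orderOf g)) (hp : (Fintype.card F).Prime)
    (hk : ∃ k : ℕ, Fintype.card F = 2 ^ k + 1 ∨ Fintype.card F + 1 = 2 ^ k) (h4 : 4 ≤ Fintype.card F) :
    Fintype.card F = 5 ∨ Fintype.card F = 7 ∨ Fintype.card F = 17 := by
  have hodd : Fintype.card F % 2 = 1 := Nat.odd_iff.mp (hp.odd_of_ne_two (by omega))
  obtain ⟨⟨g, hg⟩, g', hg'⟩ := exists_orders (F := F)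
  obtain ⟨k, hk | hk⟩ := hk
  · have := fermat_cases hp hk (pp_of_order h hg' (Or.inl (by omega)))
    omega
  · have := mersenne_cases hp hk (pp_of_order h hg (Or.inl (by omega)))
    omega

/-- The six possible lists of prime power groups of type `PSL(2, q)`. -/
theorem psl_cases {G : Type*} [Group G] [Finite G] [IsSimpleGroup G] (hna : ¬ IsMulCommutative G)
    (hG : ∀ g : G, g ≠ 1 → IsPrimePow (orderOf g)) (e : G ≃* PSL F)
    (hq : Fintype.card F = 9 ∨ (∃ n, Fintype.card F = 2 ^ n) ∨
      ((Fintype.card F).Prime ∧ ∃ k : ℕ, Fintype.card F = 2 ^ k + 1 ∨ Fintype.card F + 1 = 2 ^ k)) :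
    Nonempty (G ≃* alternatingGroup (Fin 6)) ∨
      ∃ (K : Type) (_ : Field K) (_ : Fintype K), Fintype.card K ∈ ({4, 7, 8, 17} : Finset ℕ) ∧
        Nonempty (G ≃* PSL K) := by
  have h4 := five_le_card hna e
  have h : ∀ g : PSL F, g ≠ 1 → IsPrimePow (orderOf g) := fun g hg => by
    rw [← e.symm.orderOf_eq g]
    exact hG _ fun e1 => hg (e.symm.injective (e1.trans (map_one _).symm))
  rcases hq with h9 | ⟨n, hn⟩ | ⟨hp, hk⟩
  · exact Or.inl ⟨e.trans (S0254.result h9).some⟩
  · right
    let K := GaloisField 2 n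
    letI : Fintype K := Fintype.ofFinite K
    have hn0 : n ≠ 0 := fun e0 => by rw [e0, pow_zero] at hn; omega
    have hK : Fintype.card K = Fintype.card F := by
      rw [← Nat.card_eq_fintype_card, GaloisField.card 2 n hn0, hn]
    refine ⟨K, inferInstance, inferInstance, by
      rcases even_cases h hn h4 with h | h <;> simp [hK, h],
      ⟨e.trans ?_⟩⟩
    exact pslRingEquiv (FiniteField.ringEquivOfCardEq (K := F) (K' := K) hK.symm)
  · right
    haveI := Fact.mk hp
    rcases odd_cases h hp hk h4 with h5 | h717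
    · letI : Fintype (GaloisField 2 2) := Fintype.ofFinite _
      have hK : Fintype.card (GaloisField 2 2) = 4 := by
        rw [← Nat.card_eq_fintype_card, GaloisField.card 2 2 two_ne_zero]; rfl
      exact ⟨_, inferInstance, inferInstance, by simp [hK],
        ⟨(e.trans (S0253.result h5).some).trans (S0252.result hK).some.symm⟩⟩
    · refine ⟨ZMod (Fintype.card F), inferInstance, inferInstance, ?_, ⟨e.trans ?_⟩⟩
      · rcases h717 with h | h <;> simp [ZMod.card, h]
      · exact pslRingEquiv (FiniteField.ringEquivOfCardEq (K := F) (K' := ZMod (Fintype.card F)) (ZMod.card _).symm)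

end Cfsg.Agent.EPPO
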